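import Groth.Agent.S14768
import Groth.Agent.S14791
import Groth.Agent.Lib.LimDescend.FgAlg
import Mathlib.AlgebraicGeometry.AffineSpace
import Mathlib.AlgebraicGeometry.Morphisms.Immersion
import Mathlib

/-!
# Universal subtrusiveness is tested on affine spaces
-/

set_option autoImplicit false
set_option backward.isDefEq.respectTransparency false
universe u

open CategoryTheory CategoryTheory.Limits AlgebraicGeometry Opposite

noncomputable section

namespace Groth.Agent.SubtrAffine4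

/-- Subtrusiveness of a base change passes to a further base change along a preimmersion. -/
theorem isSSubtrusive_of_preimmersion {X Y Q T P : Scheme.{u}} (f : X ⟶ Y) (g : T ⟶ Y) (m : Q ⟶ T)
    [IsPreimmersion m] (h : Q ⟶ Y) (hm : m ≫ g = h) (hs : Subtr.IsSSubtrusive (pullback.snd f g))
    (a : P ⟶ X) (b : P ⟶ Q) (hP : IsPullback a b f h) : Subtr.IsSSubtrusive b := by
  subst hm
  intro q q' hq
  have hP' := hP.flip
  let k : P ⟶ pullback f g := pullback.lift a (b ≫ m) (by rw [hP.w, Category.assoc])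
  have hk : IsPullback k b (pullback.snd f g) m := by
    refine IsPullback.of_right (h₁₂ := pullback.fst f g) (v₁₃ := f) ?_ (pullback.lift_snd _ _ _)
      (IsPullback.of_hasPullback f g)
    rwa [pullback.lift_fst]
  haveI : IsPreimmersion k := MorphismProperty.of_isPullback hk.flip inferInstance
  obtain ⟨x, x', hx, hbx, hbx'⟩ := hs (hq.map m.continuous)
  obtain ⟨z, hz, hz2⟩ := Scheme.Pullback.exists_preimage_pullback (f := pullback.snd f g) (g := m) x q hbx
  obtain ⟨z', hz', hz2'⟩ := Scheme.Pullback.exists_preimage_pullback (f := pullback.snd f g) (g := m) x' q' hbx'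
  have e1 : ∀ w, k (hk.isoPullback.inv w) = pullback.fst (pullback.snd f g) m w := fun w => by
    rw [← Scheme.Hom.comp_apply, IsPullback.isoPullback_inv_fst]
  have e2 : ∀ w, b (hk.isoPullback.inv w) = pullback.snd (pullback.snd f g) m w := fun w => by
    rw [← Scheme.Hom.comp_apply, IsPullback.isoPullback_inv_snd]
  refine ⟨hk.isoPullback.inv z, hk.isoPullback.inv z', ?_, by rw [e2, hz2], by rw [e2, hz2']⟩
  rw [← k.isEmbedding.isInducing.specializes_iff, e1, e1, hz, hz']
  exact hx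

theorem univSSubtrusive_of_forall_affineSpace {X Y : Scheme.{u}} (f : X ⟶ Y) [QuasiCompact f]
    (H : ∀ n : ℕ, 0 < n →
      Subtr.IsSSubtrusive (pullback.snd f (AffineSpace (ULift.{u} (Fin n)) Y ↘ Y))) :
    Subtr.UnivSSubtrusive f := by
  refine (Groth.Agent.S14768.result f).2 fun V _ _ _ g => ?_
  obtain ⟨_, ⟨U, hU, rfl⟩, hcU, -⟩ := Y.isBasis_affineOpens.exists_subset_of_mem_open
    (Set.mem_univ (g (IsLocalRing.closedPoint V))) isOpen_univ
  have hrange : Set.range g ⊆ Set.range hU.fromSpec := by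
    rw [hU.range_fromSpec]
    rintro _ ⟨p, rfl⟩
    exact ((IsLocalRing.specializes_closedPoint (R := V) p).map g.continuous).mem_open U.2 hcU
  let gU : Spec (CommRingCat.of V) ⟶ Spec Γ(Y, U) := IsOpenImmersion.lift hU.fromSpec g hrange
  letI : Algebra Γ(Y, U) V := (Spec.preimage gU).hom.toAlgebra
  let D := GrothLib.LimDescend.Rel.fgDiagram Γ(Y, U) V
  let gS : ∀ j, D.obj j ⟶ Y := fun j =>
    Spec.map (CommRingCat.ofHom (algebraMap Γ(Y, U) ↥j.unop.1)) ≫ hU.fromSpec
  have hgS : ∀ i j (φ : j ⟶ i), D.map φ ≫ gS i = gS j := fun i j φ => by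
    show Spec.map _ ≫ Spec.map _ ≫ _ = Spec.map _ ≫ _
    rw [← Spec.map_comp_assoc]
    rfl
  let i₀ := Classical.arbitrary (GrothLib.LimDescend.Rel.FgSub Γ(Y, U) V)
  have hπ : (GrothLib.LimDescend.Rel.fgCone Γ(Y, U) V).π.app (op i₀) ≫ gS (op i₀) = g := by
    show Spec.map _ ≫ Spec.map _ ≫ _ = _
    rw [← Spec.map_comp_assoc, ← IsOpenImmersion.lift_fac hU.fromSpec g hrange]
    congr 1
    exact Spec.map_preimage gU
  -- the stages embed in affine spaces
  have hstage : ∀ j, ∀ {P Q : Scheme.{u}} (m : Q ⟶ D.obj j) [IsPreimmersion m] (h : Q ⟶ Y),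
      m ≫ gS j = h → ∀ (a : P ⟶ X) (b : P ⟶ Q), IsPullback a b f h → Subtr.IsSSubtrusive b := by
    intro j P Q m _ h hm a b hP
    obtain ⟨S, hS⟩ := j.unop
    obtain ⟨s, hs⟩ := (j.unop.1.fg_iff_finiteType.mp j.unop.2).out
    let n := s.card + 1
    let v : ULift.{u} (Fin n) → ↥j.unop.1 := fun k =>
      if h : (k.down : ℕ) < s.card then (s.equivFin.symm ⟨k.down, h⟩ : ↥j.unop.1) else 0
    have hsurj : Function.Surjective (MvPolynomial.aeval v : MvPolynomial (ULift.{u} (Fin n)) Γ(Y, U) →ₐ[_] _) := by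
      rw [← AlgHom.range_eq_top, ← Algebra.adjoin_range_eq_range_aeval, eq_top_iff, ← hs]
      refine Algebra.adjoin_mono fun x hx => ?_
      refine ⟨⟨⟨(s.equivFin ⟨x, hx⟩ : ℕ), Nat.lt_succ_of_lt (s.equivFin ⟨x, hx⟩).2⟩⟩, ?_⟩
      simp [v]
    let e : D.obj j ⟶ Spec (CommRingCat.of (MvPolynomial (ULift.{u} (Fin n)) Γ(Y, U))) :=
      Spec.map (CommRingCat.ofHom (MvPolynomial.aeval v).toRingHom)
    haveI : IsClosedImmersion e := IsClosedImmersion.spec_of_surjective _ hsurj
    let M : AffineSpace (ULift.{u} (Fin n)) (Spec Γ(Y, U)) ⟶ AffineSpace (ULift.{u} (Fin n)) Y :=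
      AffineSpace.map (ULift.{u} (Fin n)) hU.fromSpec
    haveI : IsOpenImmersion M :=
      MorphismProperty.of_isPullback (AffineSpace.isPullback_map hU.fromSpec).flip inferInstance
    let emb : Q ⟶ AffineSpace (ULift.{u} (Fin n)) Y :=
      m ≫ e ≫ (AffineSpace.SpecIso (ULift.{u} (Fin n)) Γ(Y, U)).inv ≫ M
    refine isSSubtrusive_of_preimmersion f _ emb h ?_ (H n (Nat.succ_pos _)) a b hP
    rw [← hm]
    simp only [emb, M, gS, Category.assoc, AffineSpace.map_over, AffineSpace.SpecIso_inv_over_assoc]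
    simp only [e, ← Spec.map_comp_assoc, ← CommRingCat.ofHom_comp]
    congr 4
    exact RingHom.ext fun r => MvPolynomial.aeval_C v r
  have key := Groth.Agent.S14791.result D (GrothLib.LimDescend.Rel.fgCone Γ(Y, U) V)
    (GrothLib.LimDescend.Rel.isLimitFgCone Γ(Y, U) V) (op i₀) (pullback.snd f (gS (op i₀))) (𝟙 _)
    ⟨op i₀, 𝟙 _, fun j φ => by
      let t := pullback.fst (𝟙 (D.obj (op i₀))) (D.map (φ ≫ 𝟙 _))
      refine hstage j (pullback.snd (𝟙 (D.obj (op i₀))) (D.map (φ ≫ 𝟙 _))) (t ≫ gS (op i₀)) ?_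
        (pullback.fst (pullback.snd f (gS (op i₀))) t ≫ pullback.fst f (gS (op i₀)))
        (pullback.snd (pullback.snd f (gS (op i₀))) t)
        (((IsPullback.of_hasPullback (pullback.snd f (gS (op i₀))) t)).paste_horiz
          (IsPullback.of_hasPullback f (gS (op i₀))))
      rw [← hgS _ _ (φ ≫ 𝟙 _), ← Category.assoc, ← pullback.condition]
      simp [t]⟩
  let π := (GrothLib.LimDescend.Rel.fgCone Γ(Y, U) V).π.app (op i₀)
  let m : Spec (CommRingCat.of V) ⟶ pullback (𝟙 (D.obj (op i₀))) π :=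
    pullback.lift π (𝟙 _) (by simp [π])
  haveI : IsIso m := by
    have h1 : m ≫ pullback.snd (𝟙 (D.obj (op i₀))) π = 𝟙 _ := pullback.lift_snd _ _ _
    exact ⟨pullback.snd (𝟙 (D.obj (op i₀))) π, h1, by
      rw [← cancel_mono (pullback.snd (𝟙 (D.obj (op i₀))) π)]
      erw [Category.assoc, h1]
      simp⟩
  refine isSSubtrusive_of_preimmersion (pullback.snd f (gS (op i₀)))
    (pullback.fst (𝟙 (D.obj (op i₀))) π) m π (pullback.lift_fst _ _ _) key
    (pullback.lift (pullback.fst f g) (pullback.snd f g ≫ π)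
      (by rw [Category.assoc, hπ]; exact pullback.condition))
    (pullback.snd f g) ?_
  refine IsPullback.of_right (h₁₂ := pullback.fst f (gS (op i₀))) (v₁₃ := f) ?_ (pullback.lift_snd _ _ _)
    (IsPullback.of_hasPullback f (gS (op i₀)))
  rw [pullback.lift_fst, hπ]
  exact IsPullback.of_hasPullback f g

end Groth.Agent.SubtrAffine4
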